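import Mathlib
import Groth.Agent.Lib.Helper4.QReg1

/-!
# Blow-up of an `H_1`-regular sequence: the affine charts (helper5)

For an `H_1`-regular sequence `f_1, …, f_n` of `R` and an index `j₀`, the kernel of the evaluation
`R[T_1, …, T_n] → R_{f_{j₀}}`, `T_l ↦ f_l / f_{j₀}`, is generated by the linear relations
`f_p T_q - f_q T_p` and `T_{j₀} - 1`.
-/

set_option autoImplicit false
universe u
open MvPolynomial

namespace Groth.Agent.Lib.Helper5.BlowGr

open Groth.Agent.Lib.Helper4.QReg1

section Scale
variable {R : Type u} [CommRing R] {σ : Type*} {L : Type*} [CommRing L] [Algebra R L]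

/-- scaling the point of evaluation of a homogeneous polynomial -/
theorem aeval_mul_of_isHomogeneous (y : σ → L) (c : L) (k : ℕ) (ξ : MvPolynomial σ R)
    (hξ : ξ.IsHomogeneous k) : aeval (fun l => y l * c) ξ = aeval y ξ * c ^ k := by
  classical
  rw [ξ.as_sum, map_sum, map_sum, Finset.sum_mul]
  refine Finset.sum_congr rfl fun m hm => ?_
  rw [aeval_monomial, aeval_monomial, mul_assoc]
  congr 1
  have hdeg : k = ∑ i ∈ m.support, m i := hξ.degree_eq_sum_deg_support hm
  rw [Finsupp.prod, Finsupp.prod, hdeg, ← Finset.prod_pow_eq_pow_sum, ← Finset.prod_mul_distrib]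
  refine Finset.prod_congr rfl fun i _ => ?_
  rw [mul_pow]

end Scale

section Ker
variable {R : Type u} [CommRing R] {n : ℕ} (f : Fin n → R) (j₀ : Fin n)

/-- the inverse of `f_{j₀}` -/
noncomputable abbrev inv₀ : Localization.Away (f j₀) := IsLocalization.Away.invSelf (f j₀)

theorem f_mul_inv₀ : algebraMap R (Localization.Away (f j₀)) (f j₀) * inv₀ f j₀ = 1 :=
  IsLocalization.Away.mul_invSelf (f j₀)

/-- evaluation at `f_l / f_{j₀}` -/
noncomputable def ev : MvPolynomial (Fin n) R →ₐ[R] Localization.Away (f j₀) :=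
  aeval (fun l => algebraMap R (Localization.Away (f j₀)) (f l) * inv₀ f j₀)

theorem ev_X (l : Fin n) :
    ev f j₀ (X l) = algebraMap R (Localization.Away (f j₀)) (f l) * inv₀ f j₀ := by
  unfold ev
  rw [aeval_X]

theorem ev_of_isHomogeneous (k : ℕ) (ξ : MvPolynomial (Fin n) R) (hξ : ξ.IsHomogeneous k) :
    ev f j₀ ξ = algebraMap R (Localization.Away (f j₀)) (eval f ξ) * inv₀ f j₀ ^ k := by
  unfold ev
  rw [aeval_mul_of_isHomogeneous _ _ k ξ hξ]
  congr 1
  exact aeval_algebraMap_apply (Localization.Away (f j₀)) f ξ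

/-- `X^m - 1 ∈ (X - 1)` -/
theorem pow_sub_one_mem (m : ℕ) :
    (X j₀ : MvPolynomial (Fin n) R) ^ m - 1 ∈ Ideal.span {(X j₀ : MvPolynomial (Fin n) R) - 1} := by
  rw [Ideal.mem_span_singleton]
  have := sub_dvd_pow_sub_pow (X j₀ : MvPolynomial (Fin n) R) 1 m
  rwa [one_pow] at this

/-- **the kernel of the evaluation** -/
theorem ker_ev_le (hf : CAlgX.IsH1Regular f) (g : MvPolynomial (Fin n) R) (hg : ev f j₀ g = 0) :
    g ∈ Tid f ⊔ Ideal.span {(X j₀ : MvPolynomial (Fin n) R) - 1} := by
  classical
  set d := g.totalDegree with hd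
  set L := Localization.Away (f j₀) with hL
  -- decompose into homogeneous components
  have hsum : g = ∑ k ∈ Finset.range (d + 1), homogeneousComponent k g :=
    (sum_homogeneousComponent g).symm
  have h1 : ∑ k ∈ Finset.range (d + 1),
      algebraMap R L (eval f (homogeneousComponent k g)) * inv₀ f j₀ ^ k = 0 := by
    rw [← hg]
    conv_rhs => rw [hsum]
    rw [map_sum]
    refine Finset.sum_congr rfl fun k _ => ?_
    rw [ev_of_isHomogeneous f j₀ k _ (homogeneousComponent_isHomogeneous k g)]
  -- clear denominators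
  have h2 : algebraMap R L (∑ k ∈ Finset.range (d + 1),
      f j₀ ^ (d - k) * eval f (homogeneousComponent k g)) = 0 := by
    have h3 : algebraMap R L (f j₀) ^ d * ∑ k ∈ Finset.range (d + 1),
        algebraMap R L (eval f (homogeneousComponent k g)) * inv₀ f j₀ ^ k = 0 := by
      rw [h1, mul_zero]
    rw [Finset.mul_sum] at h3
    rw [map_sum, ← h3]
    refine Finset.sum_congr rfl fun k hk => ?_
    have hk' : k ≤ d := Nat.lt_succ_iff.mp (Finset.mem_range.mp hk)
    rw [map_mul, map_pow]
    have e1 : algebraMap R L (f j₀) ^ d =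
        algebraMap R L (f j₀) ^ (d - k) * algebraMap R L (f j₀) ^ k := by
      rw [← pow_add, Nat.sub_add_cancel hk']
    have e2 : algebraMap R L (f j₀) ^ k * inv₀ f j₀ ^ k = 1 := by
      rw [← mul_pow, f_mul_inv₀, one_pow]
    rw [e1]
    have e3 : algebraMap R L (f j₀) ^ (d - k) * algebraMap R L (f j₀) ^ k *
        (algebraMap R L (eval f (homogeneousComponent k g)) * inv₀ f j₀ ^ k) =
        algebraMap R L (f j₀) ^ (d - k) * algebraMap R L (eval f (homogeneousComponent k g)) *
          (algebraMap R L (f j₀) ^ k * inv₀ f j₀ ^ k) := by ring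
    rw [e3, e2, mul_one]
  obtain ⟨⟨_, N, rfl⟩, hN⟩ := (IsLocalization.map_eq_zero_iff (Submonoid.powers (f j₀)) L _).mp h2
  -- the homogenised polynomial
  set H : MvPolynomial (Fin n) R :=
    ∑ k ∈ Finset.range (d + 1), X j₀ ^ (N + (d - k)) * homogeneousComponent k g with hH
  have hHhom : H.IsHomogeneous (N + d) := by
    apply IsHomogeneous.sum
    intro k hk
    have hk' : k ≤ d := Nat.lt_succ_iff.mp (Finset.mem_range.mp hk)
    have e : N + d = (N + (d - k)) + k := by omega
    rw [e]
    exact (isHomogeneous_X_pow j₀ _).mul (homogeneousComponent_isHomogeneous k g)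
  have hHev : eval f H = 0 := by
    rw [hH, map_sum]
    have : f j₀ ^ N * ∑ k ∈ Finset.range (d + 1),
        f j₀ ^ (d - k) * eval f (homogeneousComponent k g) = 0 := hN
    rw [← this, Finset.mul_sum]
    refine Finset.sum_congr rfl fun k _ => ?_
    rw [map_mul, map_pow, eval_X, pow_add, mul_assoc]
  have hHT : H ∈ Tid f := linear_type f hf (N + d) H hHhom hHev
  have hdiff : g - H ∈ Ideal.span {(X j₀ : MvPolynomial (Fin n) R) - 1} := by
    have e0 : g - H = ∑ k ∈ Finset.range (d + 1), (homogeneousComponent k g -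
        X j₀ ^ (N + (d - k)) * homogeneousComponent k g) := by
      rw [Finset.sum_sub_distrib, ← hsum]
    rw [e0]
    refine Ideal.sum_mem _ fun k _ => ?_
    have e4 : homogeneousComponent k g - X j₀ ^ (N + (d - k)) * homogeneousComponent k g =
        -((X j₀ ^ (N + (d - k)) - 1) * homogeneousComponent k g) := by ring
    rw [e4]
    exact neg_mem (Ideal.mul_mem_right _ _ (pow_sub_one_mem j₀ _))
  have : g = H + (g - H) := by ring
  rw [this]
  exact Submodule.add_mem_sup hHT hdiff

end Ker

end Groth.Agent.Lib.Helper5.BlowGr
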