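import Mathlib
import Groth.Agent.Lib.Helper5.BlowGr.Alg
import Groth.Agent.Lib.Helper5.Grass.GrRep4

/-!
# The closed charts of the Grassmannian of hyperplanes of `R^n / R f` (helper5)

For `q = n - 1` and the chart of the coordinates `ι` missing exactly `j₀`, the ideal of the closed
chart is generated by `f_{ι a} + x_a f_{j₀}`; when `f` is `H_1`-regular `f_{j₀}` is a
nonzerodivisor of the quotient.
-/

set_option autoImplicit false
universe u
open MvPolynomial TensorProduct Module Module.Grassmannian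

noncomputable section

namespace Groth.Agent.Lib.Helper5.BlowGr

open Groth.Agent.Lib.Helper4.QReg1
open Groth.Agent.Lib.Helper5.Grass.GrAlg1 Groth.Agent.Lib.Helper5.Grass.GrAlg2
  Groth.Agent.Lib.Helper5.Grass.GrChartAlg Groth.Agent.Lib.Helper5.Grass.GrObs

section ObsNuniv
variable {R : Type u} [CommRing R] {n q : ℕ} (ι : Fin q → Fin n) (hι : Function.Injective ι)
  (K : Set (Fin n → R))

/-- the explicit generators of the obstruction ideal -/
def obsGen : Ideal (PR R ι) :=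
  Ideal.span {c | ∃ κ ∈ K, ∃ a : Fin q, c = (Mu (R := R) ι).mulVec (fun l => C (κ l)) a}

theorem one_tmul_mem_map_Nuniv_iff {D : Type u} [CommRing D] [Algebra R D]
    (σ : PR R ι →ₐ[R] D) (κ : Fin n → R) :
    ((1 : D) ⊗ₜ[R] κ ∈ (Module.Grassmannian.map σ (Nuniv ι hι)).toSubmodule) ↔
      ∀ a : Fin q, σ ((Mu (R := R) ι).mulVec (fun l => C (κ l)) a) = 0 := by
  rw [map_Nuniv, grOf_toSubmodule, LinearMap.mem_ker, lin_apply, E_tmul]
  have hM : matOf ι (fun v => σ (MvPolynomial.X v)) = (Mu (R := R) ι).map σ :=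
    (matOf_map ι (σ : PR R ι →+* D) _).symm
  rw [hM]
  have hvec : (fun j => κ j • (1 : D)) = fun j => σ (C (κ j)) := by
    ext j
    rw [Algebra.smul_def, mul_one, ← MvPolynomial.algebraMap_eq, AlgHom.commutes]
  rw [hvec]
  constructor
  · intro h a
    have := RingHom.map_mulVec (σ : PR R ι →+* D) (Mu (R := R) ι) (fun l => C (κ l)) a
    rw [show ((σ : PR R ι →+* D) ((Mu (R := R) ι).mulVec (fun l => C (κ l)) a)) =
      σ ((Mu (R := R) ι).mulVec (fun l => C (κ l)) a) from rfl] at this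
    rw [this]
    exact congrFun h a
  · intro h
    ext a
    have := RingHom.map_mulVec (σ : PR R ι →+* D) (Mu (R := R) ι) (fun l => C (κ l)) a
    rw [Pi.zero_apply, ← h a]
    exact this.symm

theorem obsK_Nuniv_le_iff (J : Ideal (PR R ι)) :
    obsK K (Nuniv ι hι).toSubmodule ≤ J ↔ obsGen ι K ≤ J := by
  have h1 := obsK_le_ker_iff K (Ideal.Quotient.mkₐ R J) (Nuniv ι hι)
  have hker : RingHom.ker ((Ideal.Quotient.mkₐ R J : PR R ι →ₐ[R] PR R ι ⧸ J) :
      PR R ι →+* (PR R ι ⧸ J)) = J := Ideal.Quotient.mkₐ_ker R J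
  rw [hker] at h1
  rw [h1]
  constructor
  · intro h
    refine Ideal.span_le.2 ?_
    rintro c ⟨κ, hκ, a, rfl⟩
    have := (one_tmul_mem_map_Nuniv_iff ι hι _ κ).1 (h κ hκ) a
    exact Ideal.Quotient.eq_zero_iff_mem.1 this
  · intro h κ hκ
    rw [one_tmul_mem_map_Nuniv_iff]
    intro a
    exact Ideal.Quotient.eq_zero_iff_mem.2 (h (Ideal.subset_span ⟨κ, hκ, a, rfl⟩))

theorem obsK_Nuniv_eq : obsK K (Nuniv ι hι).toSubmodule = obsGen ι K :=
  le_antisymm ((obsK_Nuniv_le_iff ι hι K _).2 le_rfl) ((obsK_Nuniv_le_iff ι hι K _).1 le_rfl)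

end ObsNuniv

section Hyper
variable {R : Type u} [CommRing R] {n q : ℕ} (ι : Fin q → Fin n) (hι : Function.Injective ι)
  (j₀ : Fin n) (hj : ∀ l, l ∈ Set.range ι ↔ l ≠ j₀) (f : Fin n → R)

/-- the missing coordinate -/
def jj : {j : Fin n // j ∉ Set.range ι} := ⟨j₀, fun h => ((hj j₀).1 h) rfl⟩

theorem jj_unique (w : {j : Fin n // j ∉ Set.range ι}) : w = jj ι j₀ hj := by
  apply Subtype.ext
  by_contra h
  exact w.2 ((hj w.1).2 h)

include hj in
theorem ι_ne (a : Fin q) : ι a ≠ j₀ := (hj (ι a)).1 ⟨a, rfl⟩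

theorem Mu_mulVec (c : Fin n → PR R ι) (a : Fin q) :
    (Mu (R := R) ι).mulVec c a = c (ι a) + X (a, jj ι j₀ hj) * c j₀ := by
  rw [Matrix.mulVec, dotProduct, Fintype.sum_eq_add (ι a) j₀ (ι_ne ι j₀ hj a)]
  · congr 1
    · simp [Mu, matOf]
    · have hnot : j₀ ∉ Set.range ι := (jj ι j₀ hj).2
      simp only [Mu, matOf, hnot, dite_false]
      rfl
  · rintro l ⟨h1, h2⟩
    have hl : l ∈ Set.range ι := (hj l).2 h2
    have h1' : ¬ ι a = l := fun h => h1 h.symm
    simp [Mu, matOf, hl, h1']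

/-- the relations of the chart -/
def rel (a : Fin q) : PR R ι := C (f (ι a)) + X (a, jj ι j₀ hj) * C (f j₀)

/-- the ideal of the chart -/
def J₀ : Ideal (PR R ι) := Ideal.span (Set.range (rel ι j₀ hj f))

theorem obsGen_span_eq :
    obsGen ι ((Submodule.span R {f} : Submodule R (Fin n → R)) : Set (Fin n → R)) =
      J₀ ι j₀ hj f := by
  apply le_antisymm
  · refine Ideal.span_le.2 ?_
    rintro c ⟨κ, hκ, a, rfl⟩
    obtain ⟨r, rfl⟩ := Submodule.mem_span_singleton.1 hκ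
    rw [Mu_mulVec ι j₀ hj]
    have : C ((r • f) (ι a)) + X (a, jj ι j₀ hj) * C ((r • f) j₀) =
        C r * rel ι j₀ hj f a := by
      simp only [Pi.smul_apply, smul_eq_mul, map_mul, rel]
      ring
    rw [this]
    exact Ideal.mul_mem_left _ _ (Ideal.subset_span ⟨a, rfl⟩)
  · refine Ideal.span_le.2 ?_
    rintro _ ⟨a, rfl⟩
    refine Ideal.subset_span ⟨f, Submodule.mem_span_singleton_self f, a, ?_⟩
    rw [Mu_mulVec ι j₀ hj]
    rfl

/-- the section `x_a ↦ -T_{ι a}` -/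
def sec : PR R ι →ₐ[R] MvPolynomial (Fin n) R := aeval (fun v : Var ι => -X (ι v.1))

/-- the coordinates of the universal line -/
def tau (l : Fin n) : PR R ι :=
  if h : l = j₀ then 1 else -X (Classical.choose ((hj l).2 h), jj ι j₀ hj)

theorem tau_j₀ : (tau ι j₀ hj j₀ : PR R ι) = 1 := by simp [tau]

include hι in
theorem tau_ι (a : Fin q) : (tau ι j₀ hj (ι a) : PR R ι) = -X (a, jj ι j₀ hj) := by
  have h : ¬ ι a = j₀ := ι_ne ι j₀ hj a
  simp only [tau, h, dite_false]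
  have := Classical.choose_spec ((hj (ι a)).2 h)
  rw [hι this]

/-- dehomogenisation -/
def dehom : MvPolynomial (Fin n) R →ₐ[R] PR R ι := aeval (tau ι j₀ hj)

include hι in
theorem dehom_sec (x : PR R ι) : dehom ι j₀ hj (sec ι x) = x := by
  have : (dehom ι j₀ hj).comp (sec ι) = AlgHom.id R (PR R ι) := by
    apply MvPolynomial.algHom_ext
    intro v
    simp only [AlgHom.comp_apply, sec, dehom, aeval_X, map_neg, AlgHom.id_apply]
    rw [tau_ι ι hι j₀ hj, neg_neg]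
    congr 1
    exact Prod.ext rfl (jj_unique ι j₀ hj v.2).symm
  exact AlgHom.congr_fun this x

include hι in
theorem dehom_Tid_le : (Tid f).map (dehom ι j₀ hj) ≤ J₀ ι j₀ hj f := by
  rw [Ideal.map_le_iff_le_comap, Tid, Ideal.span_le]
  rintro _ ⟨⟨p, p'⟩, rfl⟩
  rw [SetLike.mem_coe, Ideal.mem_comap]
  simp only [map_sub, map_mul, dehom, aeval_X, aeval_C, MvPolynomial.algebraMap_eq]
  have hrel : ∀ a, rel ι j₀ hj f a ∈ J₀ ι j₀ hj f := fun a => Ideal.subset_span ⟨a, rfl⟩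
  by_cases hp : p = j₀
  · by_cases hp' : p' = j₀
    · rw [hp, hp', sub_self]; exact Ideal.zero_mem _
    · obtain ⟨b, rfl⟩ := (hj p').2 hp'
      rw [hp, tau_j₀, tau_ι ι hι j₀ hj]
      have : C (f j₀) * -X (b, jj ι j₀ hj) - C (f (ι b)) * 1 = -rel ι j₀ hj f b := by
        simp only [rel]; ring
      rw [this]
      exact neg_mem (hrel b)
  · obtain ⟨a, rfl⟩ := (hj p).2 hp
    by_cases hp' : p' = j₀
    · rw [hp', tau_j₀, tau_ι ι hι j₀ hj]
      have : C (f (ι a)) * 1 - C (f j₀) * -X (a, jj ι j₀ hj) = rel ι j₀ hj f a := by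
        simp only [rel]; ring
      rw [this]
      exact hrel a
    · obtain ⟨b, rfl⟩ := (hj p').2 hp'
      rw [tau_ι ι hι j₀ hj, tau_ι ι hι j₀ hj]
      have : C (f (ι a)) * -X (b, jj ι j₀ hj) - C (f (ι b)) * -X (a, jj ι j₀ hj) =
          -X (b, jj ι j₀ hj) * rel ι j₀ hj f a + X (a, jj ι j₀ hj) * rel ι j₀ hj f b := by
        simp only [rel]; ring
      rw [this]
      exact Ideal.add_mem _ (Ideal.mul_mem_left _ _ (hrel a)) (Ideal.mul_mem_left _ _ (hrel b))

theorem dehom_X_sub_one : dehom ι j₀ hj ((X j₀ : MvPolynomial (Fin n) R) - 1) = 0 := by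
  simp only [map_sub, map_one, dehom, aeval_X]
  rw [tau_j₀, sub_self]

theorem ev_sec_rel (a : Fin q) : ev f j₀ (sec ι (rel ι j₀ hj f a)) = 0 := by
  simp only [rel, sec, map_add, map_mul, aeval_C, aeval_X, map_neg, MvPolynomial.algebraMap_eq]
  rw [ev_X]
  have h1 : ev f j₀ (C (f (ι a))) = algebraMap R _ (f (ι a)) := by
    rw [← MvPolynomial.algebraMap_eq, AlgHom.commutes]
  have h2 : ev f j₀ (C (f j₀)) = algebraMap R _ (f j₀) := by
    rw [← MvPolynomial.algebraMap_eq, AlgHom.commutes]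
  rw [h1, h2]
  have := f_mul_inv₀ f j₀
  calc algebraMap R (Localization.Away (f j₀)) (f (ι a)) +
      -(algebraMap R (Localization.Away (f j₀)) (f (ι a)) * inv₀ f j₀) *
        algebraMap R (Localization.Away (f j₀)) (f j₀)
      = algebraMap R (Localization.Away (f j₀)) (f (ι a)) *
        (1 - algebraMap R (Localization.Away (f j₀)) (f j₀) * inv₀ f j₀) := by ring
    _ = 0 := by rw [this, sub_self, mul_zero]

theorem ev_sec_J₀ (x : PR R ι) (hx : x ∈ J₀ ι j₀ hj f) : ev f j₀ (sec ι x) = 0 := by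
  have : J₀ ι j₀ hj f ≤ RingHom.ker ((ev f j₀).comp (sec ι)).toRingHom := by
    unfold J₀
    rw [Ideal.span_le]
    rintro _ ⟨a, rfl⟩
    exact ev_sec_rel ι j₀ hj f a
  exact this hx

include hι in
/-- **`f_{j₀}` is a nonzerodivisor modulo the chart ideal** -/
theorem mem_J₀_of_mul_mem (hf : CAlgX.IsH1Regular f) (g : PR R ι)
    (hg : C (f j₀) * g ∈ J₀ ι j₀ hj f) : g ∈ J₀ ι j₀ hj f := by
  have h1 := ev_sec_J₀ ι j₀ hj f _ hg
  rw [map_mul, map_mul] at h1
  have h2 : ev f j₀ (sec ι (C (f j₀))) = algebraMap R _ (f j₀) := by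
    rw [← MvPolynomial.algebraMap_eq, AlgHom.commutes, AlgHom.commutes]
  rw [h2] at h1
  have h3 : ev f j₀ (sec ι g) = 0 := by
    have := congrArg (fun z => inv₀ f j₀ * z) h1
    simp only [mul_zero] at this
    rw [← mul_assoc, mul_comm (inv₀ f j₀), f_mul_inv₀, one_mul] at this
    exact this
  have h4 := ker_ev_le f j₀ hf _ h3
  have h5 : dehom ι j₀ hj (sec ι g) ∈ (Tid f ⊔ Ideal.span {(X j₀ : MvPolynomial (Fin n) R) - 1}).map
      (dehom ι j₀ hj) := Ideal.mem_map_of_mem _ h4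
  rw [dehom_sec ι hι j₀ hj, Ideal.map_sup, Ideal.map_span, Set.image_singleton,
    dehom_X_sub_one] at h5
  have h6 : Ideal.span {(0 : PR R ι)} = ⊥ := by simp
  rw [h6, sup_bot_eq] at h5
  exact dehom_Tid_le ι hι j₀ hj f h5

include hι in
theorem nzd_quot (hf : CAlgX.IsH1Regular f) (J : Ideal (PR R ι)) (hJ : J = J₀ ι j₀ hj f) :
    algebraMap R (PR R ι ⧸ J) (f j₀) ∈ nonZeroDivisors (PR R ι ⧸ J) := by
  subst hJ
  rw [mem_nonZeroDivisors_iff_right]
  intro x hx
  obtain ⟨g, rfl⟩ := Ideal.Quotient.mk_surjective x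
  have h1 : algebraMap R (PR R ι ⧸ J₀ ι j₀ hj f) (f j₀) =
      Ideal.Quotient.mk (J₀ ι j₀ hj f) (C (f j₀)) := rfl
  rw [h1, ← map_mul, Ideal.Quotient.eq_zero_iff_mem, mul_comm] at hx
  exact Ideal.Quotient.eq_zero_iff_mem.2 (mem_J₀_of_mul_mem ι hι j₀ hj f hf g hx)

include hj in
theorem map_span_quot (J : Ideal (PR R ι)) (hJ : J = J₀ ι j₀ hj f) :
    (Ideal.span (Set.range f)).map (algebraMap R (PR R ι ⧸ J)) =
      Ideal.span {algebraMap R (PR R ι ⧸ J) (f j₀)} := by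
  subst hJ
  apply le_antisymm
  · rw [Ideal.map_span, Ideal.span_le]
    rintro _ ⟨_, ⟨l, rfl⟩, rfl⟩
    rw [SetLike.mem_coe, Ideal.mem_span_singleton']
    by_cases hl : l = j₀
    · exact ⟨1, by rw [hl, one_mul]⟩
    · obtain ⟨a, rfl⟩ := (hj l).2 hl
      refine ⟨-Ideal.Quotient.mk (J₀ ι j₀ hj f) (X (a, jj ι j₀ hj)), ?_⟩
      have h1 : ∀ r : R, algebraMap R (PR R ι ⧸ J₀ ι j₀ hj f) r =
          Ideal.Quotient.mk (J₀ ι j₀ hj f) (C r) := fun r => rfl
      rw [h1, h1, ← map_neg, ← map_mul, eq_comm, ← sub_eq_zero, ← map_sub,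
        Ideal.Quotient.eq_zero_iff_mem]
      have : C (f (ι a)) - -X (a, jj ι j₀ hj) * C (f j₀) = rel ι j₀ hj f a := by
        simp only [rel]; ring
      rw [this]
      exact Ideal.subset_span ⟨a, rfl⟩
  · rw [Ideal.span_le, Set.singleton_subset_iff]
    exact Ideal.mem_map_of_mem _ (Ideal.subset_span ⟨j₀, rfl⟩)

end Hyper

section Closed
open Groth.Agent.Lib.Helper5.Grass.GrRep
variable {R : Type u} [CommRing R] {n : ℕ} (f : Fin n → R)

/-- the quotient map `R^n → R^n / R f` -/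
abbrev vq : (Fin n → R) →ₗ[R] ((Fin n → R) ⧸ Submodule.span R {f}) :=
  (Submodule.span R {f}).mkQ

theorem vq_surjective : Function.Surjective (vq f) := Submodule.mkQ_surjective _

/-- the coordinate missing from a chart of hyperplanes -/
theorem exists_missing (hn : 1 ≤ n) (i : Idx n (n - 1)) :
    ∃ j₀ : Fin n, ∀ l, l ∈ Set.range (emb i) ↔ l ≠ j₀ := by
  classical
  have hr : Set.range (emb i) = (i.down.1 : Set (Fin n)) := by
    unfold emb
    exact Finset.range_orderEmbOfFin i.down.1 i.down.2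
  have hc : (i.down.1)ᶜ.card = 1 := by
    rw [Finset.card_compl, i.down.2, Fintype.card_fin]
    omega
  obtain ⟨j₀, hj₀⟩ := Finset.card_eq_one.1 hc
  refine ⟨j₀, fun l => ?_⟩
  rw [hr, Finset.mem_coe]
  have : l ∈ (i.down.1)ᶜ ↔ l = j₀ := by rw [hj₀, Finset.mem_singleton]
  rw [Finset.mem_compl] at this
  constructor
  · intro h1 h2
    exact (this.2 h2) h1
  · intro h1
    by_contra h2
    exact h1 (this.1 h2)

theorem Jch_eq (i : Idx n (n - 1)) (j₀ : Fin n) (hj : ∀ l, l ∈ Set.range (emb i) ↔ l ≠ j₀) :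
    Jch (vq f) i = J₀ (emb i) j₀ hj f := by
  unfold Jch
  rw [obsK_Nuniv_eq, Submodule.ker_mkQ, obsGen_span_eq]

theorem nzd_Qch (hf : CAlgX.IsH1Regular f) (i : Idx n (n - 1)) (j₀ : Fin n)
    (hj : ∀ l, l ∈ Set.range (emb i) ↔ l ≠ j₀) :
    algebraMap R (Qch (vq f) i) (f j₀) ∈ nonZeroDivisors (Qch (vq f) i) :=
  nzd_quot (emb i) (emb_inj i) j₀ hj f hf _ (Jch_eq f i j₀ hj)

theorem map_span_Qch (i : Idx n (n - 1)) (j₀ : Fin n)
    (hj : ∀ l, l ∈ Set.range (emb i) ↔ l ≠ j₀) :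
    (Ideal.span (Set.range f)).map (algebraMap R (Qch (vq f) i)) =
      Ideal.span {algebraMap R (Qch (vq f) i) (f j₀)} :=
  map_span_quot (emb i) j₀ hj f _ (Jch_eq f i j₀ hj)

end Closed

end Groth.Agent.Lib.Helper5.BlowGr

end
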