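import Mathlib
import Groth.Agent.Lib.Helper5.Grass.AffRep3

/-!
# The charts of a scheme representing a functor covered by representable open subfunctors (helper5)

If `X` over `Spec R` represents (on affine points) a functor `Gf` on `R`-algebras and `(P i, ν i)`
is a family of charts satisfying the hypotheses of `AffRep.exists_rep`, then the morphisms
`Spec (P i) ⟶ X` classifying the `ν i` are open immersions which cover `X`.
-/

set_option autoImplicit false
universe u
open CategoryTheory CategoryTheory.Limits AlgebraicGeometry TopologicalSpace Opposite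

noncomputable section

namespace Groth.Agent.Lib.Helper5.BlowGr.Charts

open Groth.Agent.Lib.Helper5.Grass.Pts Groth.Agent.Lib.Helper5.Grass.Pts2
  Groth.Agent.Lib.Helper5.Grass.PtsLoc Groth.Agent.Lib.Helper5.Grass.AffYoneda
  Groth.Agent.Lib.Helper5.Grass.AffRep

variable {R : Type u} [CommRing R] {Gf : CommAlgCat.{u} R ⥤ Type u}
  (X : Over (Spec (CommRingCat.of R)))
  (eX : ∀ B : CommAlgCat.{u} R, (SpecO B ⟶ X) ≃ Gf.obj B)
  (heX : ∀ (B C : CommAlgCat.{u} R) (φ' : B ⟶ C) (g : SpecO B ⟶ X) (g' : SpecO C ⟶ X),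
      g'.left = Spec.map (CommRingCat.ofHom φ'.hom.toRingHom) ≫ g.left →
        eX C g' = Gf.map φ' (eX B g))
  {ι : Type u} (P : ι → CommAlgCat.{u} R) (ν : ∀ i, Gf.obj (P i))

/-- the chart morphism -/
def jc (i : ι) : SpecO (P i) ⟶ X := (eX (P i)).symm (ν i)

theorem eX_jc (i : ι) : eX (P i) (jc X eX P ν i) = ν i := Equiv.apply_symm_apply _ _

theorem jc_w (i : ι) :
    (jc X eX P ν i).left ≫ X.hom = Spec.map (CommRingCat.ofHom (algebraMap R (P i))) :=
  Over.w (jc X eX P ν i)

include heX in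
/-- an affine point lifts to the chart iff its value lies in the chart -/
theorem lift_iff (i : ι) {E : CommRingCat.{u}} (y : Spec E ⟶ X.left) :
    (∃ s : Spec E ⟶ Spec (CommRingCat.of (P i)), s ≫ (jc X eX P ν i).left = y) ↔
      InCh P ν i (objOf X y) (valOf X eX y) := by
  constructor
  · rintro ⟨s, hs⟩
    obtain ⟨ξ', -, hv⟩ := transfer X eX heX (P i) (jc X eX P ν i) y
      (Spec.preimage s) (by rw [Spec.map_preimage, hs])
    rw [eX_jc] at hv
    exact ⟨ξ', hv.symm⟩
  · rintro ⟨σ, hσ⟩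
    refine ⟨Spec.map (CommRingCat.ofHom σ.hom.toRingHom), ?_⟩
    have := eq_of_valOf X eX heX y (P i) (jc X eX P ν i) σ (by rw [eX_jc]; exact hσ.symm)
    exact this.symm

variable (hinjν : ∀ (i : ι) (B : CommAlgCat.{u} R) (σ σ' : P i ⟶ B),
    Gf.map σ (ν i) = Gf.map σ' (ν i) → σ = σ')
  (hopen : ∀ (i : ι) (B : CommAlgCat.{u} R) (N : Gf.obj B) (p : PrimeSpectrum B),
    ∃ a : B, a ∉ p.asIdeal ∧ ∃ d : Localization.Away a, ∀ (C : CommAlgCat.{u} R)
      (ψ : awayAlg B a ⟶ C), InCh P ν i C (Gf.map (awayHom B a ≫ ψ) N) ↔ IsUnit (ψ.hom d))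
  (hcov : ∀ (B : CommAlgCat.{u} R) (N : Gf.obj B) (p : PrimeSpectrum B),
    ∃ (i : ι) (C : CommAlgCat.{u} R) (ψ : B ⟶ C), IsOpenImmersion (specMap ψ).left ∧
      p ∈ Set.range (specMap ψ).left ∧ InCh P ν i C (Gf.map ψ N))

include heX hinjν in
/-- the chart morphism is injective on affine points -/
theorem jc_inj (i : ι) (E : CommRingCat.{u}) (a b : Spec E ⟶ Spec (CommRingCat.of (P i)))
    (hab : a ≫ (jc X eX P ν i).left = b ≫ (jc X eX P ν i).left) : a = b := by
  obtain ⟨ξa, hξa, hva⟩ := transfer X eX heX (P i) (jc X eX P ν i)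
    (a ≫ (jc X eX P ν i).left) (Spec.preimage a) (by rw [Spec.map_preimage])
  obtain ⟨ξb, hξb, hvb⟩ := transfer X eX heX (P i) (jc X eX P ν i)
    (a ≫ (jc X eX P ν i).left) (Spec.preimage b) (by rw [Spec.map_preimage, hab])
  rw [eX_jc] at hva hvb
  have h1 : ξa = ξb := hinjν i _ _ _ (hva.symm.trans hvb)
  have h2 : (Spec.preimage a).hom = (Spec.preimage b).hom := by
    rw [← hξa, ← hξb, h1]
  have h3 : Spec.preimage a = Spec.preimage b := CommRingCat.hom_ext h2
  have := congrArg Spec.map h3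
  rwa [Spec.map_preimage, Spec.map_preimage] at this

include heX hinjν hopen in
/-- **the chart morphisms are open immersions** -/
theorem isOpenImmersion_jc (i : ι) : IsOpenImmersion (jc X eX P ν i).left := by
  apply isOpenImmersion_of_charts _ (jc_inj X eX heX P ν hinjν i)
  intro x
  obtain ⟨k, p', hp'⟩ := X.left.affineOpenCover.openCover.exists_eq x
  obtain ⟨y₀, hy₀⟩ : ∃ y₀ : Spec (X.left.affineOpenCover.X k) ⟶ X.left,
    y₀ = X.left.affineOpenCover.f k := ⟨_, rfl⟩
  haveI : IsOpenImmersion y₀ := by rw [hy₀]; infer_instance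
  obtain ⟨a, hap, d, hd⟩ := hopen i (objOf X y₀) (valOf X eX y₀) p'
  let loc : X.left.affineOpenCover.X k ⟶ CommRingCat.of (Localization.Away a) :=
    CommRingCat.ofHom (algebraMap ↑(objOf X y₀) (Localization.Away a))
  haveI : IsOpenImmersion (Spec.map loc) :=
    IsOpenImmersion.of_isLocalization (R := ↑(objOf X y₀)) (S := Localization.Away a) a
  refine ⟨CommRingCat.of (Localization.Away a), Spec.map loc ≫ y₀, inferInstance, ?_, d, ?_⟩
  · have h1 : p' ∈ Set.range (PrimeSpectrum.comap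
        (algebraMap ↑(objOf X y₀) (Localization.Away a))) := by
      rw [PrimeSpectrum.localization_away_comap_range (Localization.Away a) a]
      exact hap
    obtain ⟨p'', hp''⟩ := h1
    refine ⟨p'', ?_⟩
    rw [Scheme.Hom.comp_apply]
    have : (Spec.map loc) p'' = p' := hp''
    rw [this, hy₀]
    exact hp'
  · intro E σ
    rw [lift_iff X eX heX P ν i]
    obtain ⟨ξ', hξ', hv⟩ := transfer X eX heX (objOf X y₀) (ptOf X y₀)
      (Spec.map σ ≫ Spec.map loc ≫ y₀) (loc ≫ σ) (by
        rw [Spec.map_comp, Category.assoc]; rfl)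
    rw [hv]
    -- the algebra homomorphism from the localisation
    letI : Algebra R E := algOf X (Spec.map σ ≫ Spec.map loc ≫ y₀)
    let ψ₀ : Localization.Away a →ₐ[R] E :=
      { toRingHom := σ.hom
        commutes' := fun r => by
          have h1 := ξ'.hom.commutes r
          have h2 : ξ'.hom (algebraMap R ↑(objOf X y₀) r) =
              σ.hom (loc.hom (algebraMap R ↑(objOf X y₀) r)) := by
            have := congrArg (fun m : ↑(objOf X y₀) →+*
              ↑(objOf X (Spec.map σ ≫ Spec.map loc ≫ y₀)) => m (algebraMap R ↑(objOf X y₀) r)) hξ'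
            exact this
          rw [h2] at h1
          have h3 : algebraMap R (Localization.Away a) r =
              loc.hom (algebraMap R ↑(objOf X y₀) r) :=
            IsScalarTower.algebraMap_apply R ↑(objOf X y₀) (Localization.Away a) r
          show σ.hom (algebraMap R (Localization.Away a) r) = _
          rw [h3]
          exact h1 }
    let ψ : awayAlg (objOf X y₀) a ⟶ objOf X (Spec.map σ ≫ Spec.map loc ≫ y₀) :=
      CommAlgCat.ofHom (R := R) (X := Localization.Away a) (Y := E) ψ₀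
    have hξψ : ξ' = awayHom (objOf X y₀) a ≫ ψ := by
      apply CommAlgCat.hom_ext
      apply AlgHom.ext
      intro z
      have := congrArg (fun m : ↑(objOf X y₀) →+*
        ↑(objOf X (Spec.map σ ≫ Spec.map loc ≫ y₀)) => m z) hξ'
      exact this
    rw [hξψ]
    exact hd (objOf X (Spec.map σ ≫ Spec.map loc ≫ y₀)) ψ

include heX hcov in
/-- **the charts cover** -/
theorem exists_mem_range_jc (x : X.left) : ∃ i, x ∈ Set.range (jc X eX P ν i).left := by
  obtain ⟨k, p', hp'⟩ := X.left.affineOpenCover.openCover.exists_eq x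
  obtain ⟨y₀, hy₀⟩ : ∃ y₀ : Spec (X.left.affineOpenCover.X k) ⟶ X.left,
    y₀ = X.left.affineOpenCover.f k := ⟨_, rfl⟩
  obtain ⟨i, C, ψ, -, ⟨p'', hp''⟩, σ, hσ⟩ := hcov (objOf X y₀) (valOf X eX y₀) p'
  refine ⟨i, (specMap σ).left p'', ?_⟩
  have h1 : eX C (specMap ψ ≫ ptOf X y₀) = Gf.map ψ (valOf X eX y₀) :=
    heX _ _ ψ (ptOf X y₀) _ rfl
  have h2 : eX C (specMap σ ≫ jc X eX P ν i) = Gf.map σ (ν i) := by
    rw [heX _ _ σ (jc X eX P ν i) _ rfl, eX_jc]
  have h3 : specMap σ ≫ jc X eX P ν i = specMap ψ ≫ ptOf X y₀ :=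
    (eX C).injective (by rw [h1, h2, hσ])
  have h4 := congrArg (fun m => m.left) h3
  simp only [Over.comp_left] at h4
  rw [← Scheme.Hom.comp_apply, h4, Scheme.Hom.comp_apply, hp'', ptOf_left, hy₀]
  exact hp'

end Groth.Agent.Lib.Helper5.BlowGr.Charts

end
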