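import Mathlib
import Groth.Agent.Lib.Helper5.Grass.GrAlg2

/-!
# The Grassmannian point of hyperplanes defined by a unimodular vector (helper5)

For a unimodular vector `s ∈ B^n` the line `B s` is a direct summand of `B^n` with quotient
projective of rank `n - 1`; a point of `G(n-1, B^n)` containing `t s` for a nonzerodivisor `t`
is that line.
-/

set_option autoImplicit false
universe u
open TensorProduct Module Module.Grassmannian

noncomputable section

namespace Groth.Agent.Lib.Helper5.BlowGr.Line

open Groth.Agent.Lib.Helper5.Grass.GrAlg1 Groth.Agent.Lib.Helper5.Grass.GrAlg2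

variable {R : Type u} [CommRing R] {n : ℕ} {B : Type u} [CommRing B] [Algebra R B]
  (s c : Fin n → B) (hsc : ∑ l, c l * s l = 1)

/-- the generator of the line -/
def gen : B ⊗[R] (Fin n → R) := (E (R := R) B).symm s

/-- the line -/
def lineSub : Submodule B (B ⊗[R] (Fin n → R)) := Submodule.span B {gen (R := R) s}

/-- the linear form `c` -/
def form : B ⊗[R] (Fin n → R) →ₗ[B] B :=
  (∑ l, c l • LinearMap.proj l) ∘ₗ (E (R := R) B).toLinearMap

theorem form_apply (x : B ⊗[R] (Fin n → R)) :
    form (R := R) c x = ∑ l, c l * E (R := R) B x l := by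
  simp [form]

include hsc in
theorem form_gen : form (R := R) c (gen (R := R) s) = 1 := by
  rw [form_apply, gen, LinearEquiv.apply_symm_apply]
  exact hsc

/-- the projection onto the complement of the line -/
def compl : B ⊗[R] (Fin n → R) →ₗ[B] B ⊗[R] (Fin n → R) :=
  LinearMap.id - (LinearMap.toSpanSingleton B _ (gen (R := R) s)) ∘ₗ form (R := R) c

theorem compl_apply (x : B ⊗[R] (Fin n → R)) :
    compl (R := R) s c x = x - form (R := R) c x • gen (R := R) s := by
  simp [compl, LinearMap.toSpanSingleton_apply]

include hsc in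
theorem compl_gen : compl (R := R) s c (gen (R := R) s) = 0 := by
  rw [compl_apply, form_gen s c hsc, one_smul, sub_self]

include hsc in
theorem lineSub_le_ker : lineSub (R := R) s ≤ LinearMap.ker (compl (R := R) s c) := by
  unfold lineSub
  rw [Submodule.span_le, Set.singleton_subset_iff]
  exact compl_gen s c hsc

/-- the splitting of the quotient by the line -/
def split : ((B ⊗[R] (Fin n → R)) ⧸ lineSub (R := R) s) →ₗ[B] B ⊗[R] (Fin n → R) :=
  (lineSub (R := R) s).liftQ (compl (R := R) s c) (lineSub_le_ker s c hsc)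

theorem split_mk (x : B ⊗[R] (Fin n → R)) :
    split s c hsc ((lineSub (R := R) s).mkQ x) = compl (R := R) s c x := rfl

theorem mkQ_gen : (lineSub (R := R) s).mkQ (gen (R := R) s) = 0 := by
  rw [Submodule.mkQ_apply, Submodule.Quotient.mk_eq_zero]
  exact Submodule.subset_span rfl

theorem mkQ_split (y : (B ⊗[R] (Fin n → R)) ⧸ lineSub (R := R) s) :
    (lineSub (R := R) s).mkQ (split s c hsc y) = y := by
  obtain ⟨x, rfl⟩ := Submodule.mkQ_surjective _ y
  rw [split_mk, compl_apply, map_sub, map_smul, mkQ_gen, smul_zero, sub_zero]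

theorem form_split (y : (B ⊗[R] (Fin n → R)) ⧸ lineSub (R := R) s) :
    form (R := R) c (split s c hsc y) = 0 := by
  obtain ⟨x, rfl⟩ := Submodule.mkQ_surjective _ y
  rw [split_mk, compl_apply, map_sub, map_smul, form_gen s c hsc, smul_eq_mul, mul_one, sub_self]

/-- the decomposition `B^n ≃ B × B^n / B s` -/
def decomp : (B ⊗[R] (Fin n → R)) ≃ₗ[B] B × ((B ⊗[R] (Fin n → R)) ⧸ lineSub (R := R) s) where
  toFun x := (form (R := R) c x, (lineSub (R := R) s).mkQ x)
  map_add' x y := by simp
  map_smul' b x := by simp
  invFun p := p.1 • gen (R := R) s + split s c hsc p.2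
  left_inv x := by
    simp only [split_mk, compl_apply]
    abel
  right_inv p := by
    obtain ⟨b, y⟩ := p
    simp only [map_add, map_smul, form_gen s c hsc, form_split, mkQ_gen, mkQ_split, smul_eq_mul,
      mul_one, add_zero, smul_zero, zero_add]

instance : Module.Finite B (B ⊗[R] (Fin n → R)) := Module.Finite.equiv (E (R := R) B).symm

instance : Module.Free B (B ⊗[R] (Fin n → R)) := Module.Free.of_equiv (E (R := R) B).symm

include hsc in
theorem projective_quot : Module.Projective B ((B ⊗[R] (Fin n → R)) ⧸ lineSub (R := R) s) :=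
  Module.Projective.of_split (split s c hsc) (lineSub (R := R) s).mkQ
    (LinearMap.ext fun y => mkQ_split s c hsc y)

include hsc in
theorem rank_quot (p : PrimeSpectrum B) :
    Module.rankAtStalk (R := B) ((B ⊗[R] (Fin n → R)) ⧸ lineSub (R := R) s) p = n - 1 := by
  haveI := projective_quot (R := R) s c hsc
  haveI : Nontrivial B := p.nontrivial
  have h1 := Module.rankAtStalk_eq_of_equiv (decomp (R := R) s c hsc)
  rw [Module.rankAtStalk_prod] at h1
  have h2 := congrFun h1 p
  rw [Module.rankAtStalk_eq_finrank_of_free, Pi.add_apply, Module.rankAtStalk_self] at h2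
  have h3 : Module.finrank B (B ⊗[R] (Fin n → R)) = n := by
    rw [LinearEquiv.finrank_eq (E (R := R) B), Module.finrank_pi, Fintype.card_fin]
  simp only [Pi.natCast_apply, Nat.cast_id, Pi.one_apply] at h2
  omega

/-- **the Grassmannian point defined by a unimodular vector** -/
def lineG : G(n - 1, B ⊗[R] (Fin n → R); B) where
  toSubmodule := lineSub (R := R) s
  finite_quotient := inferInstance
  projective_quotient := projective_quot (R := R) s c hsc
  rankAtStalk_eq := rank_quot (R := R) s c hsc

theorem lineG_toSubmodule : (lineG (R := R) s c hsc).toSubmodule = lineSub (R := R) s := rfl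

/-- **uniqueness**: a point containing `t s`, `t` a nonzerodivisor, is the line `B s` -/
theorem eq_lineG (N : G(n - 1, B ⊗[R] (Fin n → R); B)) (t : B) (ht : t ∈ nonZeroDivisors B)
    (hN : t • gen (R := R) s ∈ N.toSubmodule) : N = lineG (R := R) s c hsc := by
  symm
  apply eq_of_le
  rw [lineG_toSubmodule, lineSub, Submodule.span_le, Set.singleton_subset_iff, SetLike.mem_coe]
  have hreg : IsSMulRegular ((B ⊗[R] (Fin n → R)) ⧸ N.toSubmodule) t :=
    Module.Flat.isSMulRegular_of_nonZeroDivisors ht
  have h1 : t • N.toSubmodule.mkQ (gen (R := R) s) = t • (0 : _ ⧸ N.toSubmodule) := by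
    rw [smul_zero, ← map_smul, Submodule.mkQ_apply, Submodule.Quotient.mk_eq_zero]
    exact hN
  have h2 := hreg h1
  rwa [Submodule.mkQ_apply, Submodule.Quotient.mk_eq_zero] at h2

end Groth.Agent.Lib.Helper5.BlowGr.Line

end
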