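import Mathlib
import Groth.Agent.Lib.Lead.Blow4

/-!
# A criterion for a morphism to `Spec A` to be a blowing up (helper5)

A morphism `b : X' ⟶ Spec A` is the blowing up of `Spec A` in `I` as soon as the inverse image of
`I` on `X'` is effective Cartier and `Spec φ : Spec B ⟶ Spec A` lifts uniquely to `X'` whenever
`I B` is generated by a nonzerodivisor.  (The globalisation argument is the one of the lead's
`Blow3` for `Proj` of the Rees algebra.)
-/

set_option autoImplicit false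
universe u
open CategoryTheory CategoryTheory.Limits AlgebraicGeometry TopologicalSpace Opposite

namespace Groth.Agent.Lib.Helper5.BlowGr.UP

open Scheme.IdealSheafData Groth.Agent.Helper4 Groth.Agent.Lead.Blow

/-- the kernel of `Spec` of a ring map (as in helper1's `RegBlowB`) -/
theorem ker_SpecMap' {R S : CommRingCat.{u}} (ψ : R ⟶ S) :
    (Spec.map ψ).ker = ofIdealTop ((RingHom.ker ψ.hom).map (Scheme.ΓSpecIso R).inv.hom) := by
  rw [Scheme.ker_of_isAffine]
  congr 1
  have h1 : (Scheme.ΓSpecIso R).inv ≫ (Spec.map ψ).appTop = ψ ≫ (Scheme.ΓSpecIso S).inv :=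
    (Scheme.ΓSpecIso_inv_naturality ψ).symm
  have hbij : Function.Bijective (Scheme.ΓSpecIso R).inv.hom :=
    ConcreteCategory.bijective_of_isIso (Scheme.ΓSpecIso R).inv
  have hinjS : Function.Injective (Scheme.ΓSpecIso S).inv.hom :=
    (ConcreteCategory.bijective_of_isIso (Scheme.ΓSpecIso S).inv).1
  ext x
  obtain ⟨r, rfl⟩ := hbij.2 x
  have h2 : (Spec.map ψ).appTop.hom ((Scheme.ΓSpecIso R).inv.hom r) =
      (Scheme.ΓSpecIso S).inv.hom (ψ.hom r) := by
    have := congrArg (fun m => m.hom r) h1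
    simp only [CommRingCat.hom_comp, RingHom.comp_apply] at this
    exact this
  rw [RingHom.mem_ker, h2, Ideal.mem_map_iff_of_surjective _ hbij.2]
  constructor
  · intro h
    refine ⟨r, ?_, rfl⟩
    rw [RingHom.mem_ker]
    apply hinjS
    rw [h, map_zero]
  · rintro ⟨r', hr', hrr'⟩
    have := hbij.1 hrr'
    subst this
    rw [RingHom.mem_ker.1 hr', map_zero]

/-- the ideal sheaf of `Spec (A ⧸ I) ⟶ Spec A` -/
theorem ker_SpecMap_mk {A : Type u} [CommRing A] (I : Ideal A) :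
    (Spec.map (CommRingCat.ofHom (Ideal.Quotient.mk I))).ker = specIdeal I := by
  have := ker_SpecMap' (CommRingCat.ofHom (Ideal.Quotient.mk I))
  rw [this]
  unfold specIdeal
  congr 2
  exact Ideal.mk_ker

variable {A : Type u} [CommRing A] (I : Ideal A) {X' : Scheme.{u}}
  (b : X' ⟶ Spec (CommRingCat.of A))

section Lift
variable (huniq : ∀ (B : Type u) [CommRing B] (φ : A →+* B) (t : B),
    t ∈ nonZeroDivisors B → Ideal.map φ I = Ideal.span {t} →
    ∀ h₁ h₂ : Spec (CommRingCat.of B) ⟶ X', h₁ ≫ b = Spec.map (CommRingCat.ofHom φ) →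
      h₂ ≫ b = Spec.map (CommRingCat.ofHom φ) → h₁ = h₂)
  (hex : ∀ (B : Type u) [CommRing B] (φ : A →+* B) (t : B),
    t ∈ nonZeroDivisors B → Ideal.map φ I = Ideal.span {t} →
    ∃ h : Spec (CommRingCat.of B) ⟶ X', h ≫ b = Spec.map (CommRingCat.ofHom φ))

include huniq in
theorem lift_unique {Y : Scheme.{u}} (g : Y ⟶ Spec (CommRingCat.of A))
    (hg : BlowUp.IsEffCartierIdeal ((specIdeal I).comap g))
    (h₁ h₂ : Y ⟶ X') (hh₁ : h₁ ≫ b = g) (hh₂ : h₂ ≫ b = g) : h₁ = h₂ := by
  apply Scheme.hom_ext_of_forall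
  intro y
  obtain ⟨V, hyV, t, ht, hmap⟩ := exists_local_gen I g hg y
  refine ⟨V.1, hyV, ?_⟩
  rw [← cancel_epi V.2.isoSpec.inv, ← Category.assoc, ← Category.assoc,
    IsAffineOpen.isoSpec_inv_ι]
  apply huniq Γ(Y, V.1) (secMap g V.1) t ht hmap
  · rw [Category.assoc, hh₁, fromSpec_comp]
  · rw [Category.assoc, hh₂, fromSpec_comp]

include huniq hex in
theorem exists_lift {Y : Scheme.{u}} (g : Y ⟶ Spec (CommRingCat.of A))
    (hg : BlowUp.IsEffCartierIdeal ((specIdeal I).comap g)) :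
    ∃ h : Y ⟶ X', h ≫ b = g := by
  choose V hyV t ht hmap using exists_local_gen I g hg
  have hloc : ∀ y, ∃ h : ((V y).1 : Scheme.{u}) ⟶ X', h ≫ b = (V y).1.ι ≫ g := by
    intro y
    obtain ⟨h, hh⟩ := hex Γ(Y, (V y).1) (secMap g (V y).1) (t y) (ht y) (hmap y)
    refine ⟨(V y).2.isoSpec.hom ≫ h, ?_⟩
    rw [Category.assoc, hh, ← fromSpec_comp, ← IsAffineOpen.isoSpec_inv_ι, Category.assoc,
      Iso.hom_inv_id_assoc]
  choose h hh using hloc
  let 𝒰 : Y.OpenCover := {
    I₀ := Y, X y := ((V y).1 : Scheme.{u}), f y := (V y).1.ι,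
    mem₀ := by
      rw [Scheme.presieve₀_mem_precoverage_iff]
      refine ⟨fun x ↦ ⟨x, by simpa using hyV x⟩, inferInstance⟩ }
  refine ⟨𝒰.glueMorphisms h ?_, ?_⟩
  · intro x y
    apply lift_unique I b huniq (pullback.fst (𝒰.f x) (𝒰.f y) ≫ (V x).1.ι ≫ g)
    · rw [← Category.assoc, comap_comp]
      exact isEffCartier_comap_of_flat _ _ hg
    · rw [Category.assoc, hh]
    · rw [Category.assoc, hh]
      exact (pullback.condition_assoc (f := 𝒰.f x) (g := 𝒰.f y) g).symm
  · apply 𝒰.hom_ext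
    intro y
    rw [← Category.assoc, 𝒰.ι_glueMorphisms, hh]

include huniq hex in
/-- **criterion for a blowing up of an affine scheme** -/
theorem isBlowUp_of_spec (hC : BlowUp.IsEffCartierIdeal ((specIdeal I).comap b)) :
    BlowUp.IsBlowUp b (specIdeal I) := by
  refine ⟨hC, fun Y g hg => ?_⟩
  obtain ⟨h, hh⟩ := exists_lift I b huniq hex g hg
  exact ⟨h, hh, fun h' hh' => lift_unique I b huniq g hg h' h hh' hh⟩

end Lift

end Groth.Agent.Lib.Helper5.BlowGr.UP
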