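import Mathlib
import Groth.Agent.Lib.Helper5.BlowGr.ChartAlg
import Groth.Agent.Lib.Helper5.BlowGr.Charts
import Groth.Agent.Lib.Helper5.BlowGr.UP
import Groth.Agent.Lib.Helper5.BlowGr.Line

/-!
# The blowing up of `Spec R` in an `H_1`-regular sequence is a Grassmannian (helper5)

The scheme representing the Grassmannian functor of rank `n - 1` quotients of `R^n / R f` is a
blowing up of `Spec R` in `(f_1, …, f_n)`.
-/

set_option autoImplicit false
universe u
open CategoryTheory CategoryTheory.Limits AlgebraicGeometry TopologicalSpace Opposite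
open TensorProduct Module Module.Grassmannian

noncomputable section

namespace Groth.Agent.Lib.Helper5.BlowGr

open Groth.Agent.Lib.Helper5.Grass.Pts Groth.Agent.Lib.Helper5.Grass.Pts2
  Groth.Agent.Lib.Helper5.Grass.PtsLoc Groth.Agent.Lib.Helper5.Grass.AffRep
  Groth.Agent.Lib.Helper5.Grass.GrRep Groth.Agent.Lib.Helper5.Grass.GrAlg1
  Groth.Agent.Lib.Helper5.Grass.GrAlg2 Groth.Agent.Lib.Helper5.Grass.GrComap
  Groth.Agent.Lib.Helper5.Grass.GrObs
  Groth.Agent.Lib.Helper5.BlowGr.Charts Groth.Agent.Lib.Helper5.BlowGr.UP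
  Groth.Agent.Lib.Helper5.BlowGr.Line Groth.Agent.Lead.Blow

variable {R : Type u} [CommRing R] {n : ℕ} (f : Fin n → R)

section Algebra
variable {B : Type u} [CommRing B] [Algebra R B]

/-- `1 ⊗ f` in coordinates -/
theorem one_tmul_eq (s : Fin n → B) (t : B) (hs : ∀ l, algebraMap R B (f l) = s l * t) :
    ((1 : B) ⊗ₜ[R] f : B ⊗[R] (Fin n → R)) = t • gen (R := R) s := by
  apply (E (R := R) B).injective
  rw [E_tmul, map_smul, gen, LinearEquiv.apply_symm_apply]
  ext l
  rw [Pi.smul_apply, smul_eq_mul, mul_comm, ← hs l, Algebra.smul_def, mul_one]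

/-- the cofactors of the generators of a principal ideal generated by a nonzerodivisor -/
theorem exists_cofactors (t : B) (ht : t ∈ nonZeroDivisors B)
    (hmap : (Ideal.span (Set.range f)).map (algebraMap R B) = Ideal.span {t}) :
    ∃ s c : Fin n → B, (∀ l, algebraMap R B (f l) = s l * t) ∧ ∑ l, c l * s l = 1 := by
  have h1 : ∀ l, ∃ b : B, algebraMap R B (f l) = b * t := by
    intro l
    have : algebraMap R B (f l) ∈ (Ideal.span (Set.range f)).map (algebraMap R B) :=
      Ideal.mem_map_of_mem _ (Ideal.subset_span ⟨l, rfl⟩)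
    rw [hmap, Ideal.mem_span_singleton'] at this
    obtain ⟨b, hb⟩ := this
    exact ⟨b, hb.symm⟩
  choose s hs using h1
  have h2 : t ∈ Ideal.span (Set.range (fun l => algebraMap R B (f l))) := by
    have h3 : (Ideal.span (Set.range f)).map (algebraMap R B) =
        Ideal.span (Set.range (fun l => algebraMap R B (f l))) := by
      rw [Ideal.map_span, ← Set.range_comp]
      rfl
    rw [← h3, hmap]
    exact Ideal.subset_span rfl
  obtain ⟨c, hc⟩ := (Ideal.mem_span_range_iff_exists_fun).1 h2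
  refine ⟨s, c, hs, ?_⟩
  have h4 : (∑ l, c l * s l) * t = 1 * t := by
    rw [one_mul, Finset.sum_mul]
    refine Eq.trans (Finset.sum_congr rfl fun l _ => ?_) hc
    rw [hs l, mul_assoc]
  exact (mul_cancel_right_mem_nonZeroDivisors ht).1 h4
  
end Algebra

section Geo
variable (X : Over (Spec (CommRingCat.of R)))
  (e : ∀ A : CommAlgCat.{u} R, (SpecO A ⟶ X) ≃
    (Module.Grassmannian.functor (R := R)
      (M := (Fin n → R) ⧸ Submodule.span R {f}) (n - 1)).obj A)
  (he : ∀ (A B : CommAlgCat.{u} R) (φ : A ⟶ B) (g : SpecO A ⟶ X) (g' : SpecO B ⟶ X),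
    g'.left = Spec.map (CommRingCat.ofHom φ.hom.toRingHom) ≫ g.left →
      e B g' = (Module.Grassmannian.functor (R := R)
        (M := (Fin n → R) ⧸ Submodule.span R {f}) (n - 1)).map φ (e A g))

include he in
/-- the inverse image of `(f_1, …, f_n)` on the Grassmannian is effective Cartier -/
theorem isEffCartier_X (hn : 1 ≤ n) (hf : CAlgX.IsH1Regular f) :
    BlowUp.IsEffCartierIdeal ((specIdeal (Ideal.span (Set.range f))).comap X.hom) := by
  apply isEffCartier_of_openImmersions
  intro x
  obtain ⟨i, hi⟩ := exists_mem_range_jc X e he (PM (vq f)) (νMf (vq f) (vq_surjective f))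
    (hcov_M (vq f) (vq_surjective f)) x
  obtain ⟨j₀, hj⟩ := exists_missing hn i
  haveI := isOpenImmersion_jc X e he (PM (vq f)) (νMf (vq f) (vq_surjective f))
    (hinj_M (vq f) (vq_surjective f)) (hopen_M (vq f) (vq_surjective f)) i
  refine ⟨_, (jc X e (PM (vq f)) (νMf (vq f) (vq_surjective f)) i).left, inferInstance, hi, ?_⟩
  rw [← Scheme.IdealSheafData.comap_comp, jc_w, comap_SpecMap]
  exact isEffCartier_specIdeal _ _ (nzd_Qch f hf i j₀ hj) (map_span_Qch f i j₀ hj)

theorem vq_self : vq f f = 0 := by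
  rw [Submodule.mkQ_apply, Submodule.Quotient.mk_eq_zero]
  exact Submodule.mem_span_singleton_self f

include e in
/-- uniqueness of lifts of affine test schemes -/
theorem lift_unique_X (B : Type u) [CommRing B] (φ : R →+* B) (t : B)
    (ht : t ∈ nonZeroDivisors B)
    (hmap : Ideal.map φ (Ideal.span (Set.range f)) = Ideal.span {t})
    (h₁ h₂ : Spec (CommRingCat.of B) ⟶ X.left)
    (hh₁ : h₁ ≫ X.hom = Spec.map (CommRingCat.ofHom φ))
    (hh₂ : h₂ ≫ X.hom = Spec.map (CommRingCat.ofHom φ)) : h₁ = h₂ := by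
  letI : Algebra R B := φ.toAlgebra
  obtain ⟨s, c, hs, hsc⟩ := exists_cofactors f t ht hmap
  have key : ∀ (h : Spec (CommRingCat.of B) ⟶ X.left)
      (hh : h ≫ X.hom = Spec.map (CommRingCat.ofHom φ)),
      comapG (vq f) (vq_surjective f) B
        (e (CommAlgCat.of R B) (Over.homMk h hh : SpecO (CommAlgCat.of R B) ⟶ X)) =
        lineG (R := R) s c hsc := by
    intro h hh
    apply eq_lineG s c hsc _ t ht
    rw [← one_tmul_eq f s t hs]
    apply ker_le_comapG
    rw [LinearMap.mem_ker, LinearMap.baseChange_tmul, vq_self, tmul_zero]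
  have h3 := (key h₁ hh₁).trans (key h₂ hh₂).symm
  have h4 := comapG_injective (vq f) (vq_surjective f) B h3
  have h5 := (e (CommAlgCat.of R B)).injective h4
  exact congrArg (fun m => m.left) h5

include e in
/-- existence of lifts of affine test schemes -/
theorem exists_lift_X (B : Type u) [CommRing B] (φ : R →+* B) (t : B)
    (ht : t ∈ nonZeroDivisors B)
    (hmap : Ideal.map φ (Ideal.span (Set.range f)) = Ideal.span {t}) :
    ∃ h : Spec (CommRingCat.of B) ⟶ X.left, h ≫ X.hom = Spec.map (CommRingCat.ofHom φ) := by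
  letI : Algebra R B := φ.toAlgebra
  obtain ⟨s, c, hs, hsc⟩ := exists_cofactors f t ht hmap
  have hker : LinearMap.ker ((vq f).baseChange B) ≤ (lineG (R := R) s c hsc).toSubmodule := by
    rw [ker_baseChange_le_iff (vq f) (vq_surjective f)]
    intro κ hκ
    rw [Submodule.ker_mkQ] at hκ
    obtain ⟨r, rfl⟩ := Submodule.mem_span_singleton.1 hκ
    rw [tmul_smul, one_tmul_eq f s t hs, ← algebraMap_smul B r]
    exact Submodule.smul_mem _ _ (Submodule.smul_mem _ _ (Submodule.subset_span rfl))
  refine ⟨((e (CommAlgCat.of R B)).symm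
    (pushG (vq f) (vq_surjective f) B (lineG (R := R) s c hsc) hker)).left, ?_⟩
  exact Over.w ((e (CommAlgCat.of R B)).symm
    (pushG (vq f) (vq_surjective f) B (lineG (R := R) s c hsc) hker))

include he in
/-- **the Grassmannian of hyperplanes of `R^n / R f` is the blowing up of `Spec R` in `f`** -/
theorem isBlowUp_X (hn : 1 ≤ n) (hf : CAlgX.IsH1Regular f) :
    BlowUp.IsBlowUp X.hom (specIdeal (Ideal.span (Set.range f))) :=
  isBlowUp_of_spec _ X.hom (lift_unique_X f X e) (exists_lift_X f X e)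
    (isEffCartier_X f X e he hn hf)

end Geo

/-- **main theorem** -/
theorem main (hn : 1 ≤ n) (hf : CAlgX.IsH1Regular f) {Bl : Scheme.{u}}
    (b : Bl ⟶ Spec (CommRingCat.of R))
    (hb : BlowUp.IsBlowUp b (specIdeal (Ideal.span (Set.range f)))) :
    ∃ e : ∀ A : CommAlgCat.{u} R, (SpecO A ⟶ Over.mk b) ≃
        (Module.Grassmannian.functor (R := R)
          (M := (Fin n → R) ⧸ Submodule.span R {f}) (n - 1)).obj A,
      ∀ (A A' : CommAlgCat.{u} R) (φ : A ⟶ A') (g : SpecO A ⟶ Over.mk b)
        (g' : SpecO A' ⟶ Over.mk b),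
        g'.left = Spec.map (CommRingCat.ofHom φ.hom.toRingHom) ≫ g.left →
          e A' g' = (Module.Grassmannian.functor (R := R)
            (M := (Fin n → R) ⧸ Submodule.span R {f}) (n - 1)).map φ (e A g) := by
  obtain ⟨X, e, he⟩ := exists_rep_quot (k := n - 1) (vq f) (vq_surjective f)
  obtain ⟨θ, hθ⟩ := exists_iso_of_isBlowUp _ b X.hom hb (isBlowUp_X f X e he hn hf)
  let θ' : Over.mk b ≅ X := Over.isoMk θ (by simpa using hθ)
  refine ⟨fun A =>
    ({ toFun := fun g => g ≫ θ'.hom
       invFun := fun g => g ≫ θ'.inv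
       left_inv := fun g => by simp
       right_inv := fun g => by simp } : (SpecO A ⟶ Over.mk b) ≃ (SpecO A ⟶ X)).trans (e A), ?_⟩
  intro A A' φ g g' hg
  show e A' (g' ≫ θ'.hom) = _
  apply he A A' φ (g ≫ θ'.hom) (g' ≫ θ'.hom)
  rw [Over.comp_left, Over.comp_left, hg, Category.assoc]

end Groth.Agent.Lib.Helper5.BlowGr

end
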